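import Groth.Agent.NeronArea.SymSmooth
import Mathlib

/-!
# Achinger's normalization in characteristic `p`

If `C` is étale over `k[x₁,…,xₙ]`, `char k = p > 0`, then the `xᵢ` can be changed by elements with
vanishing differential (inside a given ideal) so that `C` becomes finite étale over the polynomial ring.
-/

set_option autoImplicit false

universe u

open MvPolynomial

namespace Groth.Achinger

variable {k : Type u} [Field k] {C : Type u} [CommRing C] [Algebra k C]

/-- The weight separating exponent vectors. -/
theorem weight_injective {m N : ℕ} {v w : Fin m → ℕ} (hv : ∀ i, v i < N) (hw : ∀ i, w i < N)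
    (h : ∑ i, v i * N ^ (i : ℕ) = ∑ i, w i * N ^ (i : ℕ)) : v = w := by
  have : finFunctionFinEquiv (fun i => (⟨v i, hv i⟩ : Fin N)) =
      finFunctionFinEquiv (fun i => (⟨w i, hw i⟩ : Fin N)) := by
    ext
    rw [finFunctionFinEquiv_apply, finFunctionFinEquiv_apply]
    exact h
  funext i
  exact congrArg Fin.val (congrFun (finFunctionFinEquiv.injective this) i)

open Polynomial in
/-- A nontrivial relation makes the first element integral after a change of the others by its
`p`-divisible powers. -/
theorem exists_integral_step (p : ℕ) (hp : 0 < p) {m : ℕ} (t : C) (u : Fin m → C)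
    {Q : MvPolynomial (Fin (m + 1)) k} (hQ : Q ≠ 0)
    (h0 : MvPolynomial.aeval (Fin.cons t u : Fin (m + 1) → C) Q = 0) :
    ∃ e : Fin m → ℕ, (∀ i, p ∣ e i ∧ 0 < e i) ∧
      IsIntegral (Algebra.adjoin k (Set.range fun i => u i - t ^ e i)) t := by
  classical
  rcases subsingleton_or_nontrivial C with hC | hC
  · refine ⟨fun _ => p, fun _ => ⟨dvd_rfl, hp⟩, ?_⟩
    rw [Subsingleton.elim t 0]; exact isIntegral_zero
  let N := p * (Q.totalDegree + 1)
  have hN : Q.totalDegree < N :=
    Nat.lt_of_lt_of_le (Nat.lt_succ_self _) (Nat.le_mul_of_pos_left _ hp)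
  refine ⟨fun i => N ^ (i.val + 1), fun i => ⟨(dvd_mul_right p _).trans (dvd_pow_self _ (by omega)),
    pow_pos (by omega) _⟩, ?_⟩
  set A' := Algebra.adjoin k (Set.range fun i => u i - t ^ N ^ (i.val + 1))
  let u' : Fin m → A' := fun i => ⟨u i - t ^ N ^ (i.val + 1), Algebra.subset_adjoin ⟨i, rfl⟩⟩
  let g : Fin (m + 1) → A'[X] :=
    Fin.cons Polynomial.X fun i => Polynomial.C (u' i) + Polynomial.X ^ N ^ (i.val + 1)
  have hg : ∀ i, (g i).Monic ∧ (g i).natDegree = N ^ (i : ℕ) := by
    refine Fin.cases ⟨Polynomial.monic_X, by simp [g]⟩ fun i => ?_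
    have hne : N ^ (i.val + 1) ≠ 0 := pow_ne_zero _ (by omega)
    constructor
    · simp only [g, Fin.cons_succ, add_comm (Polynomial.C (u' i))]
      exact Polynomial.monic_X_pow_add_C _ hne
    · simp [g, add_comm (Polynomial.C (u' i))]
  let G : A'[X] := MvPolynomial.aeval g Q
  have hmon : ∀ v : Fin (m + 1) →₀ ℕ, (v.prod fun i e => g i ^ e).Monic ∧
      (v.prod fun i e => g i ^ e).natDegree = ∑ i, v i * N ^ (i : ℕ) := by
    intro v
    rw [Finsupp.prod_fintype _ _ (fun i => pow_zero _)]
    refine ⟨Polynomial.monic_prod_of_monic _ _ fun i _ => (hg i).1.pow _, ?_⟩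
    rw [Polynomial.natDegree_prod_of_monic _ _ fun i _ => (hg i).1.pow _]
    exact Finset.sum_congr rfl fun i _ => by rw [(hg i).1.natDegree_pow, (hg i).2]
  let w : (Fin (m + 1) →₀ ℕ) → ℕ := fun v => ∑ i, v i * N ^ (i : ℕ)
  obtain ⟨v₀, hv₀, hmax⟩ := Q.support.exists_max_image w
    (Finset.nonempty_iff_ne_empty.2 (by simpa [MvPolynomial.support_eq_empty] using hQ))
  have hlt : ∀ v ∈ Q.support, ∀ i, v i < N := fun v hv i => by
    refine lt_of_le_of_lt ?_ hN
    exact (Finsupp.le_degree i v).trans (MvPolynomial.le_totalDegree hv)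
  have hG : G = ∑ v ∈ Q.support,
      Polynomial.C (algebraMap k A' (Q.coeff v)) * v.prod fun i e => g i ^ e := by
    conv_lhs => rw [show G = MvPolynomial.aeval g Q from rfl, Q.as_sum]
    rw [map_sum]
    exact Finset.sum_congr rfl fun v _ => by
      rw [MvPolynomial.aeval_monomial, Polynomial.algebraMap_apply]
  have hc : G.coeff (w v₀) = algebraMap k A' (Q.coeff v₀) := by
    rw [hG, Polynomial.finset_sum_coeff, Finset.sum_eq_single_of_mem v₀ hv₀]
    · have := (hmon v₀).1.coeff_natDegree
      rw [(hmon v₀).2] at this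
      rw [Polynomial.coeff_C_mul, this, mul_one]
    · intro v hv hne
      have hw : w v < w v₀ := lt_of_le_of_ne (hmax v hv) fun h => hne
        (Finsupp.ext fun i => congrFun (weight_injective (hlt v hv) (hlt v₀ hv₀) h) i)
      rw [Polynomial.coeff_C_mul, Polynomial.coeff_eq_zero_of_natDegree_lt ((hmon v).2 ▸ hw),
        mul_zero]
  have hdeg : G.natDegree ≤ w v₀ := by
    rw [hG]
    refine Polynomial.natDegree_sum_le_of_forall_le _ _ fun v hv => ?_
    exact (Polynomial.natDegree_C_mul_le _ _).trans ((hmon v).2 ▸ hmax v hv)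
  have hroot : Polynomial.aeval t G = 0 := by
    have : ((Polynomial.aeval t : A'[X] →ₐ[A'] C).restrictScalars k).comp (MvPolynomial.aeval g) =
        MvPolynomial.aeval (Fin.cons t u : Fin (m + 1) → C) := by
      refine MvPolynomial.algHom_ext (Fin.cases (by simp [g]) fun i => ?_)
      simp [g, u']
    have := DFunLike.congr_fun this Q
    rw [h0] at this
    exact this
  refine ⟨G * Polynomial.C (algebraMap k A' (Q.coeff v₀)⁻¹), ?_, ?_⟩
  · refine Polynomial.monic_of_natDegree_le_of_coeff_eq_one (w v₀)
      ((Polynomial.natDegree_mul_C_le _ _).trans hdeg) ?_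
    rw [Polynomial.coeff_mul_C, hc, ← map_mul,
      mul_inv_cancel₀ (MvPolynomial.mem_support_iff.1 hv₀), map_one]
  · rw [Polynomial.eval₂_mul, ← Polynomial.aeval_def, hroot, zero_mul]

theorem isIntegral_of_subalgebra {A A' : Subalgebra k C} (h : ∀ a ∈ A, IsIntegral A' a) {c : C}
    (hc : IsIntegral A c) : IsIntegral A' c := by
  obtain ⟨q, hq, hq0⟩ := hc
  let S' : Subalgebra A' C := integralClosure A' C
  let f : A →+* S' := (A.val : A →+* C).codRestrict S'.toSubsemiring fun a => h a.1 a.2
  have : IsIntegral S' c := ⟨q.map f, hq.map f, by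
    rw [Polynomial.eval₂_map]; exact hq0⟩
  exact isIntegral_trans c this

/-- Elimination of the extra generators. -/
theorem exists_finite_perturbation (p : ℕ) (hp : 0 < p) (hpC : (p : C) = 0) (J : Ideal C) {n : ℕ}
    (dep : ∀ m, n < m → ∀ f : Fin m → C, ¬ AlgebraicIndependent k f) :
    ∀ (r : ℕ) (x : Fin n → C) (z : Fin r → C), (∀ j, z j ∈ J) →
      (∀ c : C, IsIntegral (Algebra.adjoin k (Set.range (Fin.append x z))) c) →
      ∃ x' : Fin n → C, (∀ i, x' i - x i ∈ J) ∧
        (∀ i, KaehlerDifferential.D k C (x' i) = KaehlerDifferential.D k C (x i)) ∧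
        ∀ c : C, IsIntegral (Algebra.adjoin k (Set.range x')) c := by
  intro r
  induction r with
  | zero =>
    intro x z _ hint
    refine ⟨x, fun i => by simp, fun i => rfl, ?_⟩
    have : Fin.append x z = x := by
      funext i
      rw [show i = Fin.castAdd 0 i from rfl, Fin.append_left]
      rfl
    rwa [this] at hint
  | succ r ih =>
    intro x z hz hint
    let t := z (Fin.last r)
    let u : Fin (n + r) → C := Fin.append x fun j => z j.castSucc
    obtain ⟨Q, hQ, hQ0⟩ : ∃ Q : MvPolynomial (Fin (n + r + 1)) k,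
        MvPolynomial.aeval (Fin.cons t u : Fin (n + r + 1) → C) Q = 0 ∧ Q ≠ 0 := by
      by_contra h
      push_neg at h
      exact dep _ (by omega) (Fin.cons t u) (algebraicIndependent_iff.2 fun Q hQ => h Q hQ)
    obtain ⟨e, he, ht⟩ := exists_integral_step p hp t u hQ0 hQ
    set A' := Algebra.adjoin k (Set.range fun i => u i - t ^ e i) with hA'
    have htJ : ∀ i, t ^ e i ∈ J := fun i => Ideal.pow_mem_of_mem _ (hz _) _ (he i).2
    have hsplit : (fun i => u i - t ^ e i) = Fin.append (fun i => x i - t ^ e (Fin.castAdd r i))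
        (fun j => z j.castSucc - t ^ e (Fin.natAdd n j)) := by
      funext i
      refine Fin.addCases (fun i => ?_) (fun j => ?_) i <;> simp [u]
    obtain ⟨x', h1, h2, h3⟩ := ih (fun i => x i - t ^ e (Fin.castAdd r i))
      (fun j => z j.castSucc - t ^ e (Fin.natAdd n j)) (fun j => sub_mem (hz _) (htJ _)) (fun c => by
        rw [← hsplit]
        refine isIntegral_of_subalgebra (fun a ha => ?_) (hint c)
        have hle : Algebra.adjoin k (Set.range (Fin.append x z)) ≤
            (integralClosure A' C).restrictScalars k := by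
          refine Algebra.adjoin_le ?_
          have hu : ∀ i, IsIntegral A' (u i) := fun i => by
            have h1 : IsIntegral A' (u i - t ^ e i) :=
              isIntegral_algebraMap (A := C)
                (x := (⟨_, Algebra.subset_adjoin ⟨i, rfl⟩⟩ : A'))
            simpa using h1.add (ht.pow (e i))
          rintro _ ⟨i, rfl⟩
          show IsIntegral A' _
          refine Fin.addCases (fun i => ?_) (fun j => ?_) i
          · simpa [u] using hu (Fin.castAdd r i)
          · rw [Fin.append_right]
            refine Fin.lastCases ht (fun j => ?_) j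
            simpa [u] using hu (Fin.natAdd n j)
        exact hle ha)
    refine ⟨x', fun i => ?_, fun i => ?_, h3⟩
    · have := sub_mem (h1 i) (htJ (Fin.castAdd r i))
      have e2 : x' i - x i = x' i - (x i - t ^ e (Fin.castAdd r i)) - t ^ e (Fin.castAdd r i) := by
        ring
      rwa [e2]
    · rw [h2 i, map_sub]
      obtain ⟨q, hq⟩ := (he (Fin.castAdd r i)).1
      rw [Derivation.leibniz_pow, ← Nat.cast_smul_eq_nsmul C, hq, Nat.cast_mul, hpC, zero_mul,
        zero_smul, sub_zero]

/-- An algebra unramified over a polynomial ring in `n` variables has no `n + 1` independent elements. -/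
theorem not_algebraicIndependent {n : ℕ} [Algebra (MvPolynomial (Fin n) k) C]
    [IsScalarTower k (MvPolynomial (Fin n) k) C]
    [Algebra.FormallyUnramified (MvPolynomial (Fin n) k) C]
    [Algebra.FiniteType (MvPolynomial (Fin n) k) C] (m : ℕ) (hm : n < m) (f : Fin m → C) :
    ¬ AlgebraicIndependent k f := by
  classical
  intro hf
  let P := MvPolynomial (Fin n) k
  obtain ⟨q, hqp, hq⟩ := Ideal.exists_comap_eq_of_mem_minimalPrimes_of_injective
    (f := (MvPolynomial.aeval f : MvPolynomial (Fin m) k →ₐ[k] C).toRingHom) hf ⊥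
    (by simp [IsDomain.minimalPrimes_eq_singleton_bot])
  let L := FractionRing (C ⧸ q)
  let fL : C →ₐ[k] L := (IsScalarTower.toAlgHom k (C ⧸ q) L).comp (Ideal.Quotient.mkₐ k q)
  have hL : AlgebraicIndependent k (fL ∘ f) := by
    rw [algebraicIndependent_iff]
    intro Q hQ
    have hQ' : fL (MvPolynomial.aeval f Q) = 0 := by
      rw [← AlgHom.comp_apply, MvPolynomial.comp_aeval]; exact hQ
    have h1 : Ideal.Quotient.mk q (MvPolynomial.aeval f Q) = 0 :=
      IsFractionRing.injective (C ⧸ q) L (hQ'.trans (map_zero _).symm)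
    have h2 : Q ∈ q.comap (MvPolynomial.aeval f : MvPolynomial (Fin m) k →ₐ[k] C).toRingHom :=
      Ideal.mem_comap.2 (Ideal.Quotient.eq_zero_iff_mem.1 h1)
    rwa [hq, Ideal.mem_bot] at h2
  let xL : Fin n → L := fun i => algebraMap P L (MvPolynomial.X i)
  let K0 := IntermediateField.adjoin k (Set.range xL)
  have hmem : ∀ s : P, algebraMap P L s ∈ Algebra.adjoin k (Set.range xL) := fun s => by
    rw [← MvPolynomial.aeval_X_left_apply s, ← IsScalarTower.toAlgHom_apply k P L,
      ← AlgHom.comp_apply, MvPolynomial.comp_aeval, Algebra.adjoin_range_eq_range_aeval]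
    exact ⟨s, rfl⟩
  let g : P →+* K0 := (algebraMap P L).codRestrict K0.toSubfield.toSubring.toSubsemiring
    fun s => IntermediateField.algebra_adjoin_le_adjoin k _ (hmem s)
  let : Algebra P K0 := g.toAlgebra
  have : IsScalarTower P K0 L := IsScalarTower.of_algebraMap_eq fun s => rfl
  have : Algebra.FormallyUnramified C (C ⧸ q) := .of_surjective (Algebra.ofId C (C ⧸ q))
    Ideal.Quotient.mk_surjective
  have : Algebra.FormallyUnramified (C ⧸ q) L :=
    Algebra.FormallyUnramified.of_isLocalization (nonZeroDivisors (C ⧸ q))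
  have : Algebra.FormallyUnramified C L := .comp C (C ⧸ q) L
  have : Algebra.FormallyUnramified P L := .comp P C L
  have : Algebra.FormallyUnramified K0 L := .of_restrictScalars P K0 L
  have : Algebra.EssFiniteType (C ⧸ q) L := .of_isLocalization _ (nonZeroDivisors (C ⧸ q))
  have : Algebra.EssFiniteType C L := .comp C (C ⧸ q) L
  have : Algebra.EssFiniteType P L := .comp P C L
  have : Algebra.EssFiniteType K0 L := .of_comp P K0 L
  have : Module.Finite K0 L := Algebra.FormallyUnramified.finite_of_free K0 L
  have : Algebra.IsAlgebraic (Algebra.adjoin k (Set.range xL)) L := by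
    open scoped IntermediateField.algebraAdjoinAdjoin in
    exact (IsFractionRing.comap_isAlgebraic_iff (A := Algebra.adjoin k (Set.range xL)) (K := K0)
      (C := L)).2 (Algebra.IsAlgebraic.of_finite K0 L)
  have h1 := hL.lift_cardinalMk_le_trdeg
  have h2 : Algebra.trdeg k L ≤ (n : Cardinal.{u}) := by
    refine (Algebra.IsAlgebraic.trdeg_le_cardinalMk k (Set.range xL)).trans ?_
    simpa using Cardinal.mk_range_le_lift (f := xL)
  have h3 := h1.trans (Cardinal.lift_le.2 h2)
  simp at h3
  omega

/-- Finite étale after changing coordinates by elements of vanishing differential. -/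
theorem finite_etale_of_perturbation {n : ℕ} [Algebra (MvPolynomial (Fin n) k) C]
    [IsScalarTower k (MvPolynomial (Fin n) k) C] [Algebra.Etale (MvPolynomial (Fin n) k) C]
    (x' : Fin n → C)
    (hD : ∀ i, KaehlerDifferential.D k C (x' i) =
      KaehlerDifferential.D k C (algebraMap (MvPolynomial (Fin n) k) C (MvPolynomial.X i)))
    (hint : ∀ c : C, IsIntegral (Algebra.adjoin k (Set.range x')) c) :
    (MvPolynomial.aeval x' : MvPolynomial (Fin n) k →ₐ[k] C).toRingHom.Finite ∧
      (MvPolynomial.aeval x' : MvPolynomial (Fin n) k →ₐ[k] C).toRingHom.Etale := by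
  let P := MvPolynomial (Fin n) k
  have : Algebra.FormallySmooth k C := .comp k P C
  have : Algebra.FinitePresentation k C := .trans k P C
  let L : (Fin n → C) →ₗ[C] Ω[C⁄k] :=
    Fintype.linearCombination C fun i => KaehlerDifferential.D k C (x' i)
  have hL : Function.Bijective L := by
    let b := (KaehlerDifferential.mvPolynomialBasis k (Fin n)).baseChange C
    have he : L = ((KaehlerDifferential.mapBaseChange k P C) ∘ₗ b.equivFun.symm.toLinearMap) := by
      refine LinearMap.pi_ext' fun i => LinearMap.ext_ring ?_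
      simp [L, b, hD, Fintype.linearCombination_apply_single, Pi.single_apply,
        KaehlerDifferential.mapBaseChange_tmul, P]
    rw [he, LinearMap.coe_comp]
    exact (KaehlerDifferential.tensorKaehlerEquivOfFormallyEtale k P C).bijective.comp
      b.equivFun.symm.bijective
  let φ : P →ₐ[k] C := MvPolynomial.aeval x'
  constructor
  · refine RingHom.IsIntegral.to_finite (fun c => ?_)
      (RingHom.FiniteType.of_comp_finiteType (f := algebraMap k P) ?_)
    · obtain ⟨q, hq, hq0⟩ := hint c
      have hr : ∀ a : Algebra.adjoin k (Set.range x'), ∃ s : P, φ s = a := fun a => by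
        exact (SetLike.ext_iff.1 (Algebra.adjoin_range_eq_range_aeval k x') (a : C)).1 a.2
      have hl : q ∈ Polynomial.lifts (φ.codRestrict (Algebra.adjoin k (Set.range x'))
          (fun s => by rw [Algebra.adjoin_range_eq_range_aeval]; exact ⟨s, rfl⟩)).toRingHom := by
        rw [Polynomial.lifts_iff_coeff_lifts]
        exact fun i => let ⟨s, hs⟩ := hr (q.coeff i); ⟨s, Subtype.ext hs⟩
      obtain ⟨q', hq', -, hmon⟩ := Polynomial.lifts_and_natDegree_eq_and_monic hl hq
      refine ⟨q', hmon, ?_⟩
      rw [← hq', Polynomial.eval₂_map] at hq0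
      exact hq0
    · show (φ.toRingHom.comp (algebraMap k P)).FiniteType
      rw [show φ.toRingHom.comp (algebraMap k P) = algebraMap k C from φ.comp_algebraMap]
      exact RingHom.finiteType_algebraMap.2 inferInstance
  · clear! hD
    letI A' : Algebra P C := φ.toRingHom.toAlgebra
    have : @IsScalarTower k P C _ A'.toSMul _ := IsScalarTower.of_algebraMap_eq' φ.comp_algebraMap.symm
    show @Algebra.Etale P C _ _ A'
    have hfe : @Algebra.FormallyEtale P C _ _ A' := by
      refine Groth.NeronArea.SymSmooth.formallyEtale_of_bijective k (A := P) C ?_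
      let b := (KaehlerDifferential.mvPolynomialBasis k (Fin n)).baseChange C
      have he : L = ((KaehlerDifferential.mapBaseChange k P C) ∘ₗ b.equivFun.symm.toLinearMap) := by
        refine LinearMap.pi_ext' fun i => LinearMap.ext_ring ?_
        simp [L, b, Fintype.linearCombination_apply_single, Pi.single_apply,
          KaehlerDifferential.mapBaseChange_tmul, RingHom.algebraMap_toAlgebra, φ, P]
      rw [he, LinearMap.coe_comp] at hL
      exact (Function.Bijective.of_comp_iff _ b.equivFun.symm.bijective).1 hL
    have : @Algebra.FinitePresentation P C _ _ A' :=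
      Algebra.FinitePresentation.of_restrict_scalars_finitePresentation k P C
    exact ⟨hfe, this⟩

end Groth.Achinger
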